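import Groth.Prelude.Def_Lef
import Groth.Agent.CohQC.QuasiAffine
import Groth.Agent.LocFree.Summand

/-!
Connectedness of neighbourhoods under the Lefschetz condition.
-/

universe u

open CategoryTheory CategoryTheory.Limits AlgebraicGeometry TopologicalSpace Opposite

set_option autoImplicit false
set_option backward.isDefEq.respectTransparency false
set_option backward.isDefEq.respectTransparency.types false
set_option linter.style.haveILetI false

noncomputable section

namespace Groth.Agent.LefConn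

open Groth.Agent.QC

variable {X Y : Scheme.{u}}

/-- Two functions agreeing on two opens covering the space are equal. -/
lemma ext_two {V W : X.Opens} (hc : (V : Set X) ∪ W = Set.univ) {a b : Γ(X, ⊤)}
    (hV : resO X (le_top : V ≤ ⊤) a = resO X (le_top : V ≤ ⊤) b)
    (hW : resO X (le_top : W ≤ ⊤) a = resO X (le_top : W ≤ ⊤) b) : a = b := by
  refine section_eq_of_locally (M := Coh.structureModule X) fun x _ => ?_
  rcases (hc.symm ▸ Set.mem_univ x : x ∈ (V : Set X) ∪ W) with h | h
  · exact ⟨V, le_top, h, hV⟩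
  · exact ⟨W, le_top, h, hW⟩

/-- The idempotent of a partition of the space by two opens. -/
lemma exists_idem {V W : X.Opens} (hd : Disjoint V W) (hc : (V : Set X) ∪ W = Set.univ) :
    ∃ e : Γ(X, ⊤), resO X (le_top : V ≤ ⊤) e = 1 ∧ resO X (le_top : W ≤ ⊤) e = 0 := by
  have hcomp : TopCat.Presheaf.IsCompatible X.sheaf.1
      (fun b : Bool => bif b then V else W)
      (fun b => match b with | true => (1 : Γ(X, V)) | false => (0 : Γ(X, W))) := by
    intro i j
    cases i <;> cases j
    · rfl
    · have : Subsingleton Γ(X, W ⊓ V) := by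
        rw [(disjoint_iff.mp hd.symm)]
        exact CommRingCat.subsingleton_of_isTerminal X.sheaf.isTerminalOfEmpty
      exact @Subsingleton.elim _ this _ _
    · have : Subsingleton Γ(X, V ⊓ W) := by
        rw [(disjoint_iff.mp hd)]
        exact CommRingCat.subsingleton_of_isTerminal X.sheaf.isTerminalOfEmpty
      exact @Subsingleton.elim _ this _ _
    · rfl
  obtain ⟨e, he, -⟩ := X.sheaf.existsUnique_gluing' (fun b : Bool => bif b then V else W) ⊤
    (fun b => homOfLE le_top) (fun x _ => by
      rcases (hc.symm ▸ Set.mem_univ x : x ∈ (V : Set X) ∪ W) with h | h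
      · exact Opens.mem_iSup.mpr ⟨true, h⟩
      · exact Opens.mem_iSup.mpr ⟨false, h⟩) _ hcomp
  exact ⟨e, he true, he false⟩

lemma idem_trivial [PreconnectedSpace X] {e : Γ(X, ⊤)} (he : IsIdempotentElem e) : e = 0 ∨ e = 1 := by
  have h2 : e * (1 - e) = 0 := by rw [mul_sub, mul_one, he.eq, sub_self]
  have hcov : (X.basicOpen e : Set X) ∪ X.basicOpen (1 - e) = Set.univ := by
    ext x
    simp only [Set.mem_union, SetLike.mem_coe, Set.mem_univ, iff_true, Scheme.mem_basicOpen_top]
    refine IsLocalRing.isUnit_or_isUnit_of_add_one ?_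
    rw [map_sub, map_one]; ring
  have hdis : Disjoint (X.basicOpen e) (X.basicOpen (1 - e)) := by
    rw [disjoint_iff, ← Scheme.basicOpen_mul, h2, Scheme.basicOpen_zero]
  have hcl : IsClopen (X.basicOpen e : Set X) := by
    refine ⟨⟨?_⟩, (X.basicOpen e).2⟩
    have : (X.basicOpen e : Set X)ᶜ = X.basicOpen (1 - e) := by
      ext x
      constructor
      · intro hx
        have hmem : x ∈ (X.basicOpen e : Set X) ∪ X.basicOpen (1 - e) := by rw [hcov]; trivial
        exact hmem.resolve_left hx
      · exact fun hx hx' => (show x ∈ (⊥ : X.Opens) from (disjoint_iff.mp hdis) ▸ ⟨hx', hx⟩)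
    rw [this]
    exact (X.basicOpen (1 - e)).2
  rcases isClopen_iff.mp hcl with h | h
  · left
    have hu : IsUnit (1 - e) := by
      have htop : X.basicOpen (1 - e) = ⊤ := Opens.ext (by simpa [h] using hcov)
      have := RingedSpace.isUnit_res_basicOpen X.toLocallyRingedSpace.toRingedSpace (1 - e)
      have key : ∀ (V : X.Opens), V = ⊤ → IsUnit (resO X (le_top : V ≤ ⊤) (1 - e)) → IsUnit (1 - e) := by
        rintro V rfl hV; rwa [resO_self] at hV
      exact key _ htop this
    exact (hu.mul_left_eq_zero).mp h2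
  · right
    have hu : IsUnit e := by
      have htop : X.basicOpen e = ⊤ := Opens.ext (by simpa using h)
      have := RingedSpace.isUnit_res_basicOpen X.toLocallyRingedSpace.toRingedSpace e
      have key : ∀ (V : X.Opens), V = ⊤ → IsUnit (resO X (le_top : V ≤ ⊤) e) → IsUnit e := by
        rintro V rfl hV; rwa [resO_self] at hV
      exact key _ htop this
    exact (IsIdempotentElem.iff_eq_one_of_isUnit hu).mp he

/-- A scheme with only trivial idempotents is preconnected. -/
lemma preconnected_of_idem (h : ∀ e : Γ(X, ⊤), IsIdempotentElem e → e = 0 ∨ e = 1) :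
    PreconnectedSpace X := by
  refine preconnectedSpace_iff_clopen.mpr fun s hs => ?_
  by_contra hne
  obtain ⟨hne1, hne2⟩ := not_or.mp hne
  let V : X.Opens := ⟨s, hs.2⟩
  let W : X.Opens := ⟨sᶜ, hs.1.1⟩
  have hd : Disjoint V W := disjoint_iff.mpr (Opens.ext (by simp [V, W]))
  have hc : (V : Set X) ∪ W = Set.univ := by simp [V, W]
  obtain ⟨e, he1, he2⟩ := exists_idem hd hc
  have hidem : IsIdempotentElem e := ext_two hc (by rw [map_mul, he1, mul_one]) (by rw [map_mul, he2, mul_zero])
  rcases h e hidem with rfl | rfl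
  · rw [map_zero] at he1
    obtain ⟨x, hx⟩ := Set.nonempty_iff_ne_empty.mpr hne1
    haveI : Nonempty V := ⟨⟨x, hx⟩⟩
    exact zero_ne_one he1
  · rw [map_one] at he2
    obtain ⟨x, hx⟩ := Set.nonempty_compl.mpr hne2
    haveI : Nonempty W := ⟨⟨x, hx⟩⟩
    exact one_ne_zero he2

lemma resO_app (f : Y ⟶ X) {V : X.Opens} (a : Γ(X, ⊤)) :
    resO Y (le_top : f ⁻¹ᵁ V ≤ ⊤) (f.appTop a) = f.app V (resO X (le_top : V ≤ ⊤) a) :=
  (congr($(f.naturality (homOfLE (le_top : V ≤ ⊤)).op) a)).symm

/-- Value at `1`. -/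
def ev {M : X.Modules} (φ : Coh.structureModule X ⟶ M) : Γ(M, ⊤) :=
  φ.app ⊤ (show Γ(Coh.structureModule X, ⊤) from (1 : Γ(X, ⊤)))

lemma hom_eq_secHom {M : X.Modules} (φ : Coh.structureModule X ⟶ M) : φ = CohQC.secHom (ev φ) := by
  apply Scheme.Modules.hom_ext
  intro W
  ext t
  rw [CohQC.secHom_app]
  refine Eq.trans ?_ (congrArg _ (app_res φ (le_top : W ≤ ⊤)
    (show Γ(Coh.structureModule X, ⊤) from (1 : Γ(X, ⊤)))).symm)
  rw [← Scheme.Modules.Hom.app_smul]
  refine congrArg _ ?_
  show (t : Γ(X, W)) = @HMul.hMul Γ(X, W) Γ(X, W) Γ(X, W) _ t (resO X (le_top : W ≤ ⊤) 1)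
  rw [map_one, mul_one]

lemma ev_ext {M : X.Modules} {φ ψ : Coh.structureModule X ⟶ M} (h : ev φ = ev ψ) : φ = ψ := by
  rw [hom_eq_secHom φ, hom_eq_secHom ψ, h]

lemma ev_secHom {M : X.Modules} (s : Γ(M, ⊤)) : ev (CohQC.secHom s) = s :=
  (CohQC.secHom_app_one s ⊤).trans (res_self M le_top s)

lemma app_idem (f : Y ⟶ X) {V W : X.Opens} {V' W' : Y.Opens} (hV : f ⁻¹ᵁ V = V') (hW : f ⁻¹ᵁ W = W')
    (hc : (V' : Set Y) ∪ W' = Set.univ) {e : Γ(X, ⊤)} {e' : Γ(Y, ⊤)}
    (h1 : resO X (le_top : V ≤ ⊤) e = 1) (h0 : resO X (le_top : W ≤ ⊤) e = 0)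
    (h1' : resO Y (le_top : V' ≤ ⊤) e' = 1) (h0' : resO Y (le_top : W' ≤ ⊤) e' = 0) : f.appTop e = e' := by
  subst hV hW
  refine ext_two hc ?_ ?_
  · exact (resO_app f e).trans ((congrArg (f.app V) h1).trans ((map_one _).trans h1'.symm))
  · exact (resO_app f e).trans ((congrArg (f.app W) h0).trans ((map_zero _).trans h0'.symm))

lemma quotMap_app {I J : X.IdealSheafData} (h : I ≤ J) (s : Γ(I.subscheme, ⊤)) :
    ((Lef.quotMap h).app ⊤ s : Γ(J.subscheme, ⊤)) = (Scheme.IdealSheafData.inclusion h).appTop s := by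
  simp only [Lef.quotMap, Scheme.Modules.Hom.comp_app, ConcreteCategory.comp_apply]
  erw [Scheme.Modules.pushforwardCongr_hom_app_app]
  erw [CategoryTheory.Functor.map_id]
  rfl

/-- A connected scheme with bijective functions to a system of schemes of the same space. -/
theorem preconnected_of_lift {Z : Scheme.{u}} [PreconnectedSpace Z] {S : Type*} [TopologicalSpace S]
    (T : ℕ → Scheme.{u}) (j : ∀ n, T n ⟶ Z) (t : ∀ n, T n ⟶ T (n + 1)) (homeo : ∀ n, (T n) ≃ₜ S)
    (hpt : ∀ n z, homeo (n + 1) (t n z) = homeo n z)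
    (inj : ∀ a b : Γ(Z, ⊤), (∀ n, (j n).appTop a = (j n).appTop b) → a = b)
    (surj : ∀ s : ∀ n, Γ(T n, ⊤), (∀ n, (t n).appTop (s (n + 1)) = s n) →
      ∃ a : Γ(Z, ⊤), ∀ n, (j n).appTop a = s n) : PreconnectedSpace S := by
  refine preconnectedSpace_iff_clopen.mpr fun s hs => ?_
  let V : ∀ n, (T n).Opens := fun n => ⟨homeo n ⁻¹' s, hs.2.preimage (homeo n).continuous⟩
  let W : ∀ n, (T n).Opens := fun n => ⟨homeo n ⁻¹' sᶜ, hs.1.1.preimage (homeo n).continuous⟩
  have hd : ∀ n, Disjoint (V n) (W n) := fun n => disjoint_iff.mpr (Opens.ext (by simp [V, W]))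
  have hc : ∀ n, ((V n : Set (T n)) ∪ W n) = Set.univ := fun n => by simp [V, W]
  choose e he1 he2 using fun n => exists_idem (hd n) (hc n)
  have hcompat : ∀ n, (t n).appTop (e (n + 1)) = e n := by
    intro n
    have eV : t n ⁻¹ᵁ V (n + 1) = V n := Opens.ext (Set.ext fun z => by
      show homeo (n + 1) (t n z) ∈ s ↔ homeo n z ∈ s
      rw [hpt])
    have eW : t n ⁻¹ᵁ W (n + 1) = W n := Opens.ext (Set.ext fun z => by
      show homeo (n + 1) (t n z) ∈ sᶜ ↔ homeo n z ∈ sᶜ
      rw [hpt])
    exact app_idem (t n) eV eW (hc n) (he1 (n + 1)) (he2 (n + 1)) (he1 n) (he2 n)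
  obtain ⟨a, ha⟩ := surj e hcompat
  have haid : IsIdempotentElem a := inj _ _ fun n => by
    rw [map_mul, ha]
    exact ext_two (hc n) (by rw [map_mul, he1, mul_one]) (by rw [map_mul, he2, mul_zero])
  rcases idem_trivial haid with rfl | rfl
  · left
    refine Set.eq_empty_of_forall_notMem fun y hy => ?_
    haveI : Nonempty (V 0) := ⟨⟨(homeo 0).symm y, by simpa [V] using! hy⟩⟩
    have h0 := he1 0
    rw [← ha 0, map_zero, map_zero] at h0
    exact zero_ne_one h0
  · right
    refine Set.eq_univ_of_forall fun y => by_contra fun hy => ?_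
    haveI : Nonempty (W 0) := ⟨⟨(homeo 0).symm y, by simpa [W] using! hy⟩⟩
    have h1 := he2 0
    rw [← ha 0, map_one, map_one] at h1
    exact one_ne_zero h1

theorem connected_iff [IsLocallyNoetherian X] (𝓘 : X.IdealSheafData) (h : Lef.LefCond X 𝓘) (U : X.Opens)
    (hU : (𝓘.support : Set X) ⊆ (U : Set X)) :
    ConnectedSpace (𝓘.support : Set X) ↔ ConnectedSpace U := by
  classical
  set Z : Scheme.{u} := (U : Scheme.{u})
  set J : Z.IdealSheafData := 𝓘.comap U.ι
  let T : ℕ → Scheme.{u} := fun n => (J ^ (n + 1)).subscheme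
  let j : ∀ n, T n ⟶ Z := fun n => (J ^ (n + 1)).subschemeι
  have hD : FlatMod.IsFinLocFree (Coh.structureModule Z) :=
    LocFree.isFinLocFree_of_retract _ 1
      (Sigma.ι (fun _ : Fin 1 => Coh.structureModule Z) 0)
      (Sigma.desc fun _ => 𝟙 _) (Sigma.ι_desc _ _)
  obtain ⟨hinj, hsurj⟩ := h U hU _ hD
  -- injectivity and surjectivity on functions
  have inj : ∀ a b : Γ(Z, ⊤), (∀ n, (j n).appTop a = (j n).appTop b) → a = b := by
    intro a b hab
    have := hinj (CohQC.secHom (F := Coh.structureModule Z) a)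
      (CohQC.secHom (F := Coh.structureModule Z) b) fun n => ev_ext (by
        show (j n).appTop (ev (CohQC.secHom (F := Coh.structureModule Z) a)) =
          (j n).appTop (ev (CohQC.secHom (F := Coh.structureModule Z) b))
        rw [ev_secHom, ev_secHom]
        exact hab n)
    simpa only [ev_secHom] using! congrArg ev this
  have surj : ∀ s : ∀ n, Γ(T n, ⊤),
      (∀ n, (Scheme.IdealSheafData.inclusion (Lef.pow_succ_le J n)).appTop (s (n + 1)) = s n) →
      ∃ a : Γ(Z, ⊤), ∀ n, (j n).appTop a = s n := by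
    intro s hs
    obtain ⟨φ, hφ⟩ := hsurj (fun n => CohQC.secHom (F := ClSub.quotMod (J ^ (n + 1))) (s n)) fun n =>
      ev_ext (by
        show (Lef.quotMap (Lef.pow_succ_le J n)).app ⊤ (ev (CohQC.secHom _)) = _
        rw [ev_secHom, ev_secHom]
        exact (quotMap_app _ _).trans (hs n))
    exact ⟨ev φ, fun n => by simpa only [ev_secHom] using! congrArg ev (hφ n)⟩
  -- the thickenings are the support as spaces
  have hsupp : ∀ n, (U.ι : Z → X) '' Set.range (j n) = (𝓘.support : Set X) := by
    intro n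
    rw [Scheme.IdealSheafData.range_subschemeι, Scheme.IdealSheafData.support_pow_succ,
      Scheme.IdealSheafData.support_comap, TopologicalSpace.Closeds.coe_preimage,
      Set.image_preimage_eq_inter_range, Scheme.Opens.range_ι]
    exact Set.inter_eq_left.mpr hU
  let homeo : ∀ n, (T n) ≃ₜ (𝓘.support : Set X) := fun n =>
    ((U.ι.isOpenEmbedding.isEmbedding.comp (j n).isEmbedding).toHomeomorph).trans
      (Homeomorph.setCongr (by rw [Set.range_comp]; exact hsupp n))
  have hhomeo : ∀ n (z : T n), (homeo n z : X) = U.ι (j n z) := fun n z => rfl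
  constructor
  · intro hY
    haveI : ∀ n, ConnectedSpace (T n) := fun n => (homeo n).symm.surjective.connectedSpace (homeo n).symm.continuous
    have hidem : ∀ a : Γ(Z, ⊤), IsIdempotentElem a → a = 0 ∨ a = 1 := by
      intro a ha
      have hn : ∀ n, (j n).appTop a = 0 ∨ (j n).appTop a = 1 := fun n =>
        idem_trivial (ha.map (j n).appTop.hom)
      have hstep : ∀ n, (Scheme.IdealSheafData.inclusion (Lef.pow_succ_le J n)).appTop ((j (n + 1)).appTop a) =
          (j n).appTop a := fun n => by
        rw [← ConcreteCategory.comp_apply, ← Scheme.Hom.comp_appTop,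
          Scheme.IdealSheafData.inclusion_subschemeι]
      haveI : ∀ n, Nontrivial Γ(T n, ⊤) := fun n => by
        haveI : Nonempty (⊤ : (T n).Opens) := ⟨⟨Classical.arbitrary _, trivial⟩⟩
        infer_instance
      rcases hn 0 with h0 | h1
      · refine Or.inl (inj a 0 fun n => ?_)
        rw [map_zero]
        induction n with
        | zero => exact h0
        | succ n ih =>
          refine (hn (n + 1)).resolve_right fun h1 => ?_
          have := hstep n
          rw [h1, map_one, ih] at this
          exact one_ne_zero this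
      · refine Or.inr (inj a 1 fun n => ?_)
        rw [map_one]
        induction n with
        | zero => exact h1
        | succ n ih =>
          refine (hn (n + 1)).resolve_left fun h0 => ?_
          have := hstep n
          rw [h0, map_zero, ih] at this
          exact zero_ne_one this
    haveI := preconnected_of_idem hidem
    obtain ⟨⟨x, hx⟩⟩ := hY.toNonempty
    exact { toNonempty := ⟨⟨x, hU hx⟩⟩ }
  · intro hUc
    haveI : ConnectedSpace Z := hUc
    haveI : Nontrivial Γ(Z, ⊤) := by
      haveI : Nonempty (⊤ : Z.Opens) := ⟨⟨Classical.arbitrary _, trivial⟩⟩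
      infer_instance
    have hnonempty : Nonempty (𝓘.support : Set X) := by
      by_contra hne
      apply one_ne_zero (α := Γ(Z, ⊤))
      refine inj 1 0 fun n => ?_
      haveI : IsEmpty (T n) := ⟨fun z => hne ⟨homeo n z⟩⟩
      haveI : Subsingleton Γ(T n, ⊤) := by
        have : (⊤ : (T n).Opens) = ⊥ := Opens.ext (Set.eq_empty_of_isEmpty _)
        rw [this]
        exact CommRingCat.subsingleton_of_isTerminal (T n).sheaf.isTerminalOfEmpty
      exact Subsingleton.elim _ _
    suffices PreconnectedSpace (𝓘.support : Set X) from { toNonempty := hnonempty }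
    exact preconnected_of_lift T j (fun n => Scheme.IdealSheafData.inclusion (Lef.pow_succ_le J n)) homeo
      (fun n z => Subtype.ext ((hhomeo (n + 1) _).trans ((congrArg (fun g : T n ⟶ Z => U.ι (g z))
        (Scheme.IdealSheafData.inclusion_subschemeι (Lef.pow_succ_le J n))).trans (hhomeo n z).symm)))
      inj surj

end Groth.Agent.LefConn
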