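import Groth.Agent.LefConn.Basic
import Groth.Prelude.Def_FEt
import Mathlib.RingTheory.Etale.Pi

/-!
A scheme over the spectrum of a local ring to which restriction of finite étale covers is fully faithful is
connected.
-/

universe u

open CategoryTheory CategoryTheory.Limits AlgebraicGeometry TopologicalSpace Opposite

set_option autoImplicit false
set_option backward.isDefEq.respectTransparency false
set_option backward.isDefEq.respectTransparency.types false
set_option linter.style.haveILetI false

noncomputable section

namespace Groth.Agent.LefConn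

variable (A : Type u) [CommRing A]

/-- The trivial double cover of `Spec A`. -/
def doubleCover : FEt.Cat (Spec (CommRingCat.of A)) :=
  MorphismProperty.Over.mk ⊤ (Spec.map (CommRingCat.ofHom (algebraMap A (Fin 2 → A))))
    ⟨(IsFinite.SpecMap_iff _).2 (RingHom.finite_algebraMap.2 inferInstance),
      (HasRingHomProperty.Spec_iff (P := @Etale)).2 (RingHom.etale_algebraMap.2 inferInstance)⟩

/-- The trivial cover. -/
def unitCover : FEt.Cat (Spec (CommRingCat.of A)) :=
  MorphismProperty.Over.mk ⊤ (𝟙 _) (FEt.prop.{u}.id_mem _)

/-- The sheets of the trivial double cover. -/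
def sheet (i : Fin 2) : unitCover A ⟶ doubleCover A :=
  MorphismProperty.Over.homMk (Spec.map (CommRingCat.ofHom (Pi.evalRingHom (fun _ : Fin 2 => A) i))) (by
    show Spec.map _ ≫ Spec.map _ = 𝟙 _
    rw [← Spec.map_comp, ← CommRingCat.ofHom_comp]
    exact Spec.map_id _)

variable {A}

/-- Connectedness from full faithfulness over a local base. -/
theorem connectedSpace_of_restrict [IsLocalRing A] {Q : Scheme.{u}} (f : Q ⟶ Spec (CommRingCat.of A))
    [(FEt.restrict f).Full] [(FEt.restrict f).Faithful] : ConnectedSpace Q := by
  haveI : Nonempty Q := by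
    by_contra hne
    haveI := not_nonempty_iff.1 hne
    have h : (FEt.restrict f).map (sheet A 0) = (FEt.restrict f).map (sheet A 1) := by
      apply MorphismProperty.Over.Hom.ext
      haveI : IsEmpty ↑(pullback (unitCover A).hom f) :=
        ⟨fun z => IsEmpty.false (pullback.snd (unitCover A).hom f z)⟩
      exact (isInitialOfIsEmpty (X := pullback (unitCover A).hom f)).hom_ext _ _
    have h' := congrArg (fun k => k.left) ((FEt.restrict f).map_injective h)
    have h'' := congrArg (fun φ => CommRingCat.Hom.hom φ (fun j : Fin 2 => if j = 0 then (1 : A) else 0))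
      (Spec.map_injective h')
    exact one_ne_zero (α := A) (by simpa using h'')
  haveI : PreconnectedSpace Q := by
    refine preconnected_of_idem fun e he => ?_
    let a : A →+* Γ(Q, ⊤) := ((Scheme.ΓSpecIso (CommRingCat.of A)).inv ≫ f.appTop).hom
    let φ : (Fin 2 → A) →+* Γ(Q, ⊤) :=
      { toFun := fun b => a (b 0) * e + a (b 1) * (1 - e)
        map_one' := by simp
        map_mul' := fun b c => by
          have h2 : e * e = e := he
          simp only [Pi.mul_apply, map_mul]
          linear_combination (a (b 0) * a (c 1) + a (b 1) * a (c 0) - a (b 0) * a (c 0) - a (b 1) * a (c 1)) * h2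
        map_zero' := by simp
        map_add' := fun b c => by simp only [Pi.add_apply, map_add]; ring }
    let g : Q ⟶ Spec (CommRingCat.of (Fin 2 → A)) := Q.toSpecΓ ≫ Spec.map (CommRingCat.ofHom φ)
    have hg : g ≫ Spec.map (CommRingCat.ofHom (algebraMap A (Fin 2 → A))) = f := by
      have h1 : CommRingCat.ofHom (algebraMap A (Fin 2 → A)) ≫ CommRingCat.ofHom φ =
          (Scheme.ΓSpecIso (CommRingCat.of A)).inv ≫ f.appTop := by
        ext r
        show a r * e + a r * (1 - e) = a r
        ring
      simp only [g, Category.assoc]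
      rw [← Spec.map_comp, h1, Spec.map_comp, ← Scheme.toSpecΓ_naturality_assoc, toSpecΓ_SpecMap_ΓSpecIso_inv]
      exact Category.comp_id f
    let σ : (FEt.restrict f).obj (unitCover A) ⟶ (FEt.restrict f).obj (doubleCover A) :=
      MorphismProperty.Over.homMk (pullback.lift (pullback.snd (unitCover A).hom f ≫ g)
        (pullback.snd (unitCover A).hom f) ((Category.assoc _ _ _).trans (congrArg (_ ≫ ·) hg)))
        (pullback.lift_snd _ _ _)
    obtain ⟨τ, hτ⟩ := (FEt.restrict f).map_surjective σ
    let ψ := Spec.preimage τ.left
    have hτl : τ.left = Spec.map ψ := (Spec.map_preimage _).symm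
    have hk : pullback.fst (unitCover A).hom f ≫ τ.left = pullback.snd (unitCover A).hom f ≫ g :=
      ((pullback.lift_fst _ _ _).symm.trans (congrArg (fun k => k.left ≫ pullback.fst _ _) hτ)).trans
        (pullback.lift_fst _ _ _)
    have hfs : pullback.fst (unitCover A).hom f = pullback.snd (unitCover A).hom f ≫ f :=
      (Category.comp_id _).symm.trans pullback.condition
    haveI : IsIso (pullback.snd (unitCover A).hom f) := (inferInstance : IsIso (pullback.snd (𝟙 _) f))
    rw [hfs, Category.assoc, cancel_epi, hτl] at hk
    have h2 : ((Scheme.ΓSpecIso (CommRingCat.of (Fin 2 → A))).inv ≫ (f ≫ Spec.map ψ).appTop).hom = φ := by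
      rw [hk, Scheme.Hom.comp_appTop, Scheme.toSpecΓ_appTop, ← Category.assoc]
      erw [← Scheme.ΓSpecIso_inv_naturality]
      rw [Category.assoc, Iso.inv_hom_id, Category.comp_id]
      rfl
    let d : Fin 2 → A := fun j => if j = 0 then 1 else 0
    have h3 : φ d = a (ψ.hom d) := by
      rw [← h2, Scheme.Hom.comp_appTop, ← Category.assoc]
      erw [← Scheme.ΓSpecIso_inv_naturality]
      rfl
    have hd : φ d = e := by simp [φ, d]
    have hψ : IsIdempotentElem (ψ.hom d) := by
      have hdd : d * d = d := by ext j; fin_cases j <;> simp [d]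
      exact (map_mul ψ.hom d d).symm.trans (congrArg _ hdd)
    have h01 : ψ.hom d = 0 ∨ ψ.hom d = 1 := by
      rcases IsLocalRing.isUnit_or_isUnit_of_add_one (a := ψ.hom d) (b := 1 - ψ.hom d) (by ring) with hu | hu
      · exact Or.inr ((IsIdempotentElem.iff_eq_one_of_isUnit hu).mp hψ)
      · refine Or.inl ?_
        have h1 := (IsIdempotentElem.iff_eq_one_of_isUnit hu).mp (IsIdempotentElem.one_sub hψ)
        simpa using h1
    rcases h01 with h | h
    · left; rw [← hd, h3, h, map_zero]
    · right; rw [← hd, h3, h, map_one]
  exact ⟨inferInstance⟩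

end Groth.Agent.LefConn
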